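import Mathlib

/-! Characters of the additive group in characteristic p. -/

universe u

open Polynomial

noncomputable section

namespace Groth.Agent.GaChar

variable (p : ℕ) [Fact p.Prime] {A : Type u} [CommRing A] [CharP A p]

/-- Multiplicativity of a polynomial. -/
def IsChar (f : A[X]) : Prop :=
  f.coeff 0 = 1 ∧ aeval (MvPolynomial.X 0 + MvPolynomial.X 1 : MvPolynomial (Fin 2) A) f =
    aeval (MvPolynomial.X 0 : MvPolynomial (Fin 2) A) f * aeval (MvPolynomial.X 1 : MvPolynomial (Fin 2) A) f

lemma isUnit_cast {k : ℕ} (hk : ¬ p ∣ k) : IsUnit (k : A) := by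
  have h : IsUnit (k : ZMod p) := isUnit_iff_ne_zero.2 (by rwa [Ne, ZMod.natCast_eq_zero_iff])
  simpa using h.map (ZMod.castHom dvd_rfl A)

lemma isUnit_factorial {j : ℕ} (hj : j < p) : IsUnit (j.factorial : A) :=
  isUnit_cast p fun h => absurd ((Nat.Prime.dvd_factorial Fact.out).1 h) (by omega)

lemma inv_mul_choose {k i : ℕ} (hk : k < p) (hi : i ≤ k) :
    Ring.inverse (k.factorial : A) * (k.choose i : A) = Ring.inverse (i.factorial : A) * Ring.inverse ((k - i).factorial : A) := by
  have hu := isUnit_factorial (A := A) p (show i < p by omega)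
  have hv := isUnit_factorial (A := A) p (show k - i < p by omega)
  have hw := isUnit_factorial (A := A) p hk
  refine (hu.mul hv).mul_right_cancel ?_
  have h : (k.choose i : A) * ((i.factorial : A) * ((k - i).factorial : A)) = (k.factorial : A) := by
    rw [← mul_assoc]; exact_mod_cast congrArg (Nat.cast : ℕ → A) (Nat.choose_mul_factorial_mul_factorial hi)
  calc Ring.inverse (k.factorial : A) * (k.choose i : A) * ((i.factorial : A) * ((k - i).factorial : A))
      = Ring.inverse (k.factorial : A) * (k.factorial : A) := by rw [mul_assoc, h]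
    _ = 1 := Ring.inverse_mul_cancel _ hw
    _ = _ := by
      have e1 := Ring.inverse_mul_cancel _ hu
      have e2 := Ring.inverse_mul_cancel _ hv
      calc (1 : A) = (Ring.inverse (i.factorial : A) * (i.factorial : A)) *
            (Ring.inverse ((k - i).factorial : A) * ((k - i).factorial : A)) := by rw [e1, e2, one_mul]
        _ = _ := by ring

/-- Truncated exponential. -/
def texp {R : Type*} [CommRing R] [Algebra A R] (u : R) : R :=
  ∑ j ∈ Finset.range p, algebraMap A R (Ring.inverse (j.factorial : A)) * u ^ j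

lemma texp_add {R : Type*} [CommRing R] [Algebra A R] (u v : R) (h : ∀ i j, p ≤ i + j → u ^ i * v ^ j = 0) :
    texp p (A := A) (u + v) = texp p (A := A) u * texp p (A := A) v := by
  unfold texp
  rw [Finset.sum_mul_sum, ← Finset.sum_product']
  rw [← Finset.sum_filter_add_sum_filter_not (Finset.range p ×ˢ Finset.range p) (fun q => q.1 + q.2 < p)]
  have h0 : ∑ q ∈ (Finset.range p ×ˢ Finset.range p).filter (fun q => ¬ q.1 + q.2 < p),
      (algebraMap A R (Ring.inverse (q.1.factorial : A)) * u ^ q.1) *
        (algebraMap A R (Ring.inverse (q.2.factorial : A)) * v ^ q.2) = 0 :=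
    Finset.sum_eq_zero fun q hq => by
      rw [mul_mul_mul_comm, h _ _ (not_lt.1 (Finset.mem_filter.1 hq).2), mul_zero]
  rw [h0, add_zero]
  simp only [add_pow, Finset.mul_sum]
  rw [Finset.sum_sigma']
  refine Finset.sum_nbij' (fun x => (x.2, x.1 - x.2)) (fun q => ⟨q.1 + q.2, q.1⟩) ?_ ?_ ?_ ?_ ?_
  · intro x hx
    simp at hx ⊢
    omega
  · intro q hq
    simp at hq ⊢
    omega
  · intro x hx
    simp at hx
    obtain ⟨k, i⟩ := x
    simp at hx ⊢
    omega
  · intro q hq
    simp
  · intro x hx
    simp at hx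
    rw [show algebraMap A R (Ring.inverse (x.1.factorial : A)) * (u ^ x.2 * v ^ (x.1 - x.2) * (x.1.choose x.2 : R)) =
      algebraMap A R (Ring.inverse (x.1.factorial : A) * (x.1.choose x.2 : A)) * (u ^ x.2 * v ^ (x.1 - x.2)) by
        rw [map_mul, map_natCast]; ring, inv_mul_choose p hx.1 (by omega), map_mul]
    ring

lemma texp_zero {R : Type*} [CommRing R] [Algebra A R] : texp p (A := A) (0 : R) = 1 := by
  rw [texp, Finset.sum_eq_single_of_mem 0 (Finset.mem_range.2 (Fact.out : p.Prime).pos)
    (fun j _ hj => by rw [zero_pow hj, mul_zero])]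
  simp

/-- The factor of level n. -/
def E (a : A) (n : ℕ) : A[X] :=
  ∑ j ∈ Finset.range p, C (Ring.inverse (j.factorial : A) * a ^ j) * X ^ (j * p ^ n)

lemma E_zero (a : A) : E p a 0 = texp p (A := A) (C a * X) := by
  simp only [E, texp, pow_zero, mul_one, Polynomial.algebraMap_eq, mul_pow, C_mul, C_pow, mul_assoc]

lemma E_succ (a : A) (n : ℕ) : E p a (n + 1) = expand A p (E p a n) := by
  simp only [E, map_sum, map_mul, map_pow, expand_C, expand_X, ← pow_mul]
  refine Finset.sum_congr rfl fun j _ => ?_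
  rw [pow_succ, show p * (j * p ^ n) = j * (p ^ n * p) by ring]

lemma isChar_one : IsChar (1 : A[X]) := ⟨by simp, by simp⟩

lemma IsChar.mul {f g : A[X]} (hf : IsChar f) (hg : IsChar g) : IsChar (f * g) := by
  refine ⟨by rw [mul_coeff_zero, hf.1, hg.1, one_mul], ?_⟩
  rw [map_mul, hf.2, hg.2, map_mul, map_mul]
  ring

lemma aeval_E_zero {R : Type*} [CommRing R] [Algebra A R] (a : A) (v : R) :
    aeval v (E p a 0) = texp p (A := A) (algebraMap A R a * v) := by
  simp [E, texp, mul_pow, mul_assoc]

lemma isChar_E_zero {a : A} (ha : a ^ p = 0) : IsChar (E p a 0) := by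
  constructor
  · rw [coeff_zero_eq_eval_zero, ← coe_aeval_eq_eval, aeval_E_zero, mul_zero, texp_zero]
  · rw [aeval_E_zero, aeval_E_zero, aeval_E_zero, mul_add, texp_add]
    intro i j hij
    rw [mul_pow, mul_pow, mul_mul_mul_comm, ← pow_add, ← map_pow, pow_eq_zero_of_le hij ha, map_zero, zero_mul]

lemma isChar_expand {g : A[X]} (hg : IsChar g) : IsChar (expand A p g) := by
  refine ⟨?_, ?_⟩
  · rw [coeff_zero_eq_eval_zero, expand_eval, zero_pow (Fact.out : p.Prime).pos.ne', ← coeff_zero_eq_eval_zero]
    exact hg.1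
  · have e : ∀ v : MvPolynomial (Fin 2) A, aeval (MvPolynomial.expand p v) g = MvPolynomial.expand p (aeval v g) :=
      fun v => aeval_algHom_apply _ _ _
    rw [expand_aeval, expand_aeval, expand_aeval, add_pow_char, ← MvPolynomial.expand_X (p := p),
      ← MvPolynomial.expand_X (p := p), ← map_add, e, e, e, hg.2, map_mul]

lemma isChar_E {a : A} (ha : a ^ p = 0) : ∀ n, IsChar (E p a n)
  | 0 => isChar_E_zero p ha
  | n + 1 => by rw [E_succ]; exact isChar_expand p (isChar_E ha n)

omit [Fact p.Prime] [CharP A p] in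
lemma IsChar.derivative_eq {f : A[X]} (hf : IsChar f) : derivative f = f * C ((derivative f).coeff 0) := by
  have h := congrArg (fun q => MvPolynomial.pderiv (1 : Fin 2) q) hf.2
  rw [Derivation.leibniz] at h
  simp only [Derivation.map_aeval, map_add, MvPolynomial.pderiv_X_self, MvPolynomial.pderiv_X,
    Pi.single_apply, smul_eq_mul] at h
  have h2 := congrArg (MvPolynomial.aeval (R := A) ![(X : A[X]), 0]) h
  simp [← aeval_algHom_apply, Polynomial.aeval_X_left_apply] at h2
  rw [coeff_zero_eq_eval_zero]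
  simpa [aeval_def, eval₂_at_zero, coeff_zero_eq_eval_zero] using h2

lemma IsChar.coeff_succ {f : A[X]} (hf : IsChar f) (n : ℕ) : f.coeff (n + 1) * (n + 1) = f.coeff n * f.coeff 1 := by
  have h := congrArg (fun q => q.coeff n) hf.derivative_eq
  simpa [coeff_derivative] using h

lemma IsChar.coeff_one_pow {f : A[X]} (hf : IsChar f) : f.coeff 1 ^ p = 0 := by
  have h : ∀ n : ℕ, f.coeff n * (n.factorial : A) = f.coeff 1 ^ n := by
    intro n
    induction n with
    | zero => simp [hf.1]
    | succ n ih =>
      rw [Nat.factorial_succ, Nat.cast_mul, pow_succ, ← ih]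
      have := hf.coeff_succ n
      push_cast
      linear_combination (n.factorial : A) * this
  have hp : ((p.factorial : ℕ) : A) = 0 :=
    (CharP.cast_eq_zero_iff A p _).2 ((Nat.Prime.dvd_factorial Fact.out).2 le_rfl)
  rw [← h p, hp, mul_zero]

lemma coeff_E_zero_one (a : A) : (E p a 0).coeff 1 = a := by
  rw [E, finsetSum_coeff, Finset.sum_eq_single_of_mem 1 (Finset.mem_range.2 (Fact.out : p.Prime).one_lt)]
  · simp
  · intro j _ hj
    rw [coeff_C_mul, coeff_X_pow, if_neg (by simpa using hj.symm), mul_zero]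

lemma natDegree_E_zero_le (a : A) : (E p a 0).natDegree ≤ p - 1 := by
  refine natDegree_sum_le_of_forall_le _ _ fun j hj => (natDegree_C_mul_X_pow_le _ _).trans ?_
  rw [Finset.mem_range] at hj
  simp; omega

lemma E_mul_neg {a : A} (ha : a ^ p = 0) : E p a 0 * E p (-a) 0 = 1 := by
  rw [E_zero, E_zero, ← texp_add p, map_neg, neg_mul, add_neg_cancel, texp_zero]
  intro i j hij
  rw [map_neg, neg_mul, neg_pow (C a * X), mul_left_comm, ← pow_add, mul_pow, ← C_pow,
    pow_eq_zero_of_le hij ha, map_zero, zero_mul, mul_zero]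

theorem exists_prod : ∀ (D : ℕ) (f : A[X]), f.natDegree ≤ D → IsChar f →
    ∃ (N : ℕ) (a : ℕ → A), (∀ n, a n ^ p = 0) ∧ f = ∏ n ∈ Finset.range N, E p (a n) n := by
  intro D
  induction D using Nat.strong_induction_on with
  | _ D ih =>
  intro f hD hf
  have hp : p.Prime := Fact.out
  set a₀ := f.coeff 1 with ha₀
  have ha : a₀ ^ p = 0 := hf.coeff_one_pow p
  rcases Nat.lt_or_ge D 2 with hD2 | hD2
  · refine ⟨1, fun _ => a₀, fun _ => ha, ?_⟩
    rw [Finset.prod_range_one]
    ext n
    rw [E, finsetSum_coeff]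
    have hsq : a₀ * a₀ = 0 := by
      have := hf.coeff_succ 1
      rw [coeff_eq_zero_of_natDegree_lt (n := 1 + 1) (by omega), zero_mul] at this
      exact this.symm
    have hj : ∀ j, 2 ≤ j → a₀ ^ j = 0 := fun j hj => pow_eq_zero_of_le hj (by rw [sq, hsq])
    rcases n with _ | _ | n
    · rw [Finset.sum_eq_single_of_mem 0 (Finset.mem_range.2 hp.pos)]
      · simp [hf.1]
      · intro j _ hj'; simp [coeff_X_pow, hj'.symm]
    · rw [Finset.sum_eq_single_of_mem 1 (Finset.mem_range.2 hp.one_lt)]
      · simp [← ha₀]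
      · intro j _ hj'; rw [coeff_C_mul, coeff_X_pow, if_neg (by simp; omega), mul_zero]
    · rw [coeff_eq_zero_of_natDegree_lt (show f.natDegree < n + 1 + 1 by omega)]
      refine (Finset.sum_eq_zero fun j _ => ?_).symm
      rcases Nat.lt_or_ge j 2 with hj2 | hj2
      · rw [coeff_C_mul, coeff_X_pow, if_neg (by simp; omega), mul_zero]
      · simp [hj j hj2]
  · have hna : (-a₀) ^ p = 0 := by rw [neg_pow, ha, mul_zero]
    have hh : IsChar (f * E p (-a₀) 0) := hf.mul (isChar_E_zero p hna)
    set h := f * E p (-a₀) 0 with hdef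
    have h1 : h.coeff 1 = 0 := by
      rw [hdef, coeff_mul, Finset.Nat.sum_antidiagonal_eq_sum_range_succ_mk, Finset.sum_range_succ,
        Finset.sum_range_one]
      simp [hf.1, coeff_E_zero_one, (isChar_E_zero p hna).1, ← ha₀]
    have hexp : expand A p (contract p h) = h := by
      ext n
      rw [coeff_expand hp.pos, coeff_contract hp.ne_zero]
      split_ifs with hn
      · rw [Nat.div_mul_cancel hn]
      · rcases n with _ | n
        · exact absurd (dvd_zero p) hn
        · have := hh.coeff_succ n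
          rw [h1, mul_zero] at this
          exact ((IsUnit.mul_left_eq_zero (by exact_mod_cast isUnit_cast (A := A) p hn)).1 this).symm
    set g := contract p h
    have hg : IsChar g := by
      refine ⟨by rw [coeff_contract hp.ne_zero, zero_mul]; exact hh.1, ?_⟩
      refine MvPolynomial.expand_injective (σ := Fin 2) (R := A) hp.pos ?_
      have e : ∀ v : MvPolynomial (Fin 2) A, MvPolynomial.expand p (aeval v g) = aeval (MvPolynomial.expand p v) g :=
        fun v => (aeval_algHom_apply _ _ _).symm
      have h2 := hh.2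
      rw [← hexp, expand_aeval, expand_aeval, expand_aeval, add_pow_char] at h2
      rwa [map_mul, e, e, e, map_add, MvPolynomial.expand_X, MvPolynomial.expand_X]
    have hdeg : g.natDegree < D := by
      have h3 : g.natDegree * p ≤ D + (p - 1) := by
        rw [← natDegree_expand, hexp]
        exact natDegree_mul_le.trans (Nat.add_le_add hD (natDegree_E_zero_le p _))
      by_contra hc
      have h4 : D * p ≤ D + (p - 1) := (Nat.mul_le_mul_right p (not_lt.1 hc)).trans h3
      have h5 := hp.two_le
      have h6 : 2 * (p - 1) ≤ D * (p - 1) := Nat.mul_le_mul_right _ hD2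
      rw [show D * p = D * (p - 1) + D by rw [← Nat.mul_succ]; congr 1; omega] at h4
      omega
    obtain ⟨N, a, haN, hgN⟩ := ih g.natDegree hdeg g le_rfl hg
    refine ⟨N + 1, fun n => Nat.casesOn n a₀ a, fun n => ?_, ?_⟩
    · cases n with
      | zero => exact ha
      | succ n => exact haN n
    · rw [Finset.prod_range_succ']
      simp only [E_succ, ← map_prod, ← hgN, hexp]
      show f = h * E p a₀ 0
      rw [hdef, mul_assoc, mul_comm (E p (-a₀) 0), E_mul_neg p ha, mul_one]

theorem isChar_iff (f : A[X]) :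
    IsChar f ↔ ∃ (N : ℕ) (a : ℕ → A), (∀ n, a n ^ p = 0) ∧ f = ∏ n ∈ Finset.range N, E p (a n) n := by
  refine ⟨exists_prod p _ f le_rfl, ?_⟩
  rintro ⟨N, a, ha, rfl⟩
  exact Finset.prod_induction _ _ (fun _ _ => IsChar.mul) isChar_one fun n _ => isChar_E p (ha n) n

end Groth.Agent.GaChar
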