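import Groth.Agent.GaChar.Basic

/-! Coefficient sequences of characters of the additive group and of its Frobenius kernels. -/

universe u

open Polynomial

noncomputable section

namespace Groth.Agent.GaChar

/-- The exponent `(i, j)`. -/
def mon2 (i j : ℕ) : Fin 2 →₀ ℕ := Finsupp.single 0 i + Finsupp.single 1 j

lemma mon2_inj {i j s t : ℕ} : mon2 i j = mon2 s t ↔ i = s ∧ j = t := by
  refine ⟨fun h => ⟨?_, ?_⟩, fun ⟨h1, h2⟩ => by rw [h1, h2]⟩
  · have := DFunLike.congr_fun h 0; simpa [mon2] using this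
  · have := DFunLike.congr_fun h 1; simpa [mon2] using this

lemma exists_mon2 (e : Fin 2 →₀ ℕ) : e = mon2 (e 0) (e 1) := by
  ext x; fin_cases x <;> simp [mon2]

variable {A : Type u} [CommRing A]

lemma coeff_add_pow_two (d i j : ℕ) :
    MvPolynomial.coeff (mon2 i j) ((MvPolynomial.X 0 + MvPolynomial.X 1 : MvPolynomial (Fin 2) A) ^ d) =
      if d = i + j then (d.choose i : A) else 0 := by
  have hX : ∀ s t : ℕ, (MvPolynomial.X 0 : MvPolynomial (Fin 2) A) ^ s * MvPolynomial.X 1 ^ t =
      MvPolynomial.monomial (mon2 s t) 1 := fun s t => by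
    rw [MvPolynomial.X_pow_eq_monomial, MvPolynomial.X_pow_eq_monomial, MvPolynomial.monomial_mul, one_mul]
    rfl
  rw [add_pow, MvPolynomial.coeff_sum]
  have h1 : ∀ s, MvPolynomial.coeff (mon2 i j)
      ((MvPolynomial.X 0 : MvPolynomial (Fin 2) A) ^ s * MvPolynomial.X 1 ^ (d - s) * (d.choose s : MvPolynomial (Fin 2) A)) =
      if s = i ∧ d - s = j then (d.choose s : A) else 0 := fun s => by
    rw [hX, mul_comm, ← map_natCast (MvPolynomial.C : A →+* MvPolynomial (Fin 2) A), MvPolynomial.coeff_C_mul,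
      MvPolynomial.coeff_monomial]
    simp [mon2_inj]
  rw [Finset.sum_congr rfl fun s _ => h1 s]
  split_ifs with h
  · rw [Finset.sum_eq_single_of_mem i (Finset.mem_range.2 (by omega)) (fun s _ hs => if_neg (fun h' => hs h'.1)),
      if_pos ⟨rfl, by omega⟩]
  · exact Finset.sum_eq_zero fun s hs => if_neg fun h' => h (by rw [Finset.mem_range] at hs; omega)

lemma coeff_X_pow_two (v : Fin 2) (d i j : ℕ) :
    MvPolynomial.coeff (mon2 i j) ((MvPolynomial.X v : MvPolynomial (Fin 2) A) ^ d) =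
      if mon2 i j = Finsupp.single v d then 1 else 0 := by
  rw [MvPolynomial.X_pow_eq_monomial, MvPolynomial.coeff_monomial]
  simp [eq_comm]

lemma coeff_aeval_add (f : A[X]) (i j : ℕ) :
    MvPolynomial.coeff (mon2 i j) (aeval (MvPolynomial.X 0 + MvPolynomial.X 1 : MvPolynomial (Fin 2) A) f) =
      ((i + j).choose i : A) * f.coeff (i + j) := by
  rw [aeval_eq_sum_range' (n := max (f.natDegree + 1) (i + j + 1)) (by omega), MvPolynomial.coeff_sum,
    Finset.sum_eq_single_of_mem (i + j) (Finset.mem_range.2 (by omega))]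
  · rw [MvPolynomial.coeff_smul, coeff_add_pow_two, if_pos rfl, smul_eq_mul, mul_comm]
  · intro d _ hd
    rw [MvPolynomial.coeff_smul, coeff_add_pow_two, if_neg hd, smul_zero]

lemma coeff_aeval_mul (f g : A[X]) (i j : ℕ) :
    MvPolynomial.coeff (mon2 i j) (aeval (MvPolynomial.X 0 : MvPolynomial (Fin 2) A) f *
      aeval (MvPolynomial.X 1 : MvPolynomial (Fin 2) A) g) = f.coeff i * g.coeff j := by
  induction f using Polynomial.induction_on' with
  | add a b ha hb => rw [map_add, add_mul, MvPolynomial.coeff_add, ha, hb, coeff_add, add_mul]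
  | monomial s a =>
    induction g using Polynomial.induction_on' with
    | add c d hc hd => rw [map_add, mul_add, MvPolynomial.coeff_add, hc, hd, coeff_add, mul_add]
    | monomial t c =>
      rw [aeval_monomial, aeval_monomial, MvPolynomial.algebraMap_eq, mul_mul_mul_comm, ← map_mul,
        MvPolynomial.coeff_C_mul, MvPolynomial.X_pow_eq_monomial, MvPolynomial.X_pow_eq_monomial,
        MvPolynomial.monomial_mul, one_mul, MvPolynomial.coeff_monomial, coeff_monomial, coeff_monomial]
      simp only [show (Finsupp.single (0 : Fin 2) s + Finsupp.single 1 t) = mon2 s t from rfl, mon2_inj]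
      split_ifs <;> simp_all

/-- The functional equation on coefficients below `q`. -/
def SeqChar (q : ℕ∞) (c : ℕ → A) : Prop :=
  c 0 = 1 ∧ ∀ i j : ℕ, (i : ℕ∞) < q → (j : ℕ∞) < q → ((i + j).choose i : A) * c (i + j) = c i * c j

lemma IsChar.seqChar {f : A[X]} (hf : IsChar f) (q : ℕ∞) : SeqChar q f.coeff :=
  ⟨hf.1, fun i j _ _ => by rw [← coeff_aeval_add, hf.2, coeff_aeval_mul]⟩

variable (p : ℕ) [Fact p.Prime] [CharP A p]

lemma not_dvd_choose_pow : ∀ (k m : ℕ), p ^ k ≤ m → m < p ^ (k + 1) → ¬ p ∣ m.choose (p ^ k)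
  | 0, m, h1, h2 => by
    rw [pow_zero, Nat.choose_one_right]
    exact fun h => absurd (Nat.le_of_dvd (by simp at h1; omega) h) (by simpa using h2)
  | k + 1, m, h1, h2 => by
    have hp : p.Prime := Fact.out
    have h := Choose.choose_modEq_choose_mod_mul_choose_div_nat (n := m) (k := p ^ (k + 1)) (p := p)
    rw [pow_succ, Nat.mul_mod_left, Nat.choose_zero_right, one_mul, Nat.mul_div_cancel _ hp.pos] at h
    rw [pow_succ]
    intro hd
    refine not_dvd_choose_pow k (m / p) ((Nat.le_div_iff_mul_le hp.pos).2 (by rwa [← pow_succ]))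
      ((Nat.div_lt_iff_lt_mul hp.pos).2 (by rwa [← pow_succ])) ?_
    exact (Nat.ModEq.dvd_iff h dvd_rfl).1 hd

lemma eq_of_pow {q : ℕ∞} {c d : ℕ → A} (hc : SeqChar q c) (hd : SeqChar q d)
    (h : ∀ k : ℕ, ((p ^ k : ℕ) : ℕ∞) < q → c (p ^ k) = d (p ^ k)) : ∀ m : ℕ, (m : ℕ∞) < q → c m = d m := by
  intro m
  induction m using Nat.strong_induction_on with
  | _ m ih =>
  intro hm
  have hp : p.Prime := Fact.out
  rcases Nat.eq_zero_or_pos m with rfl | hpos
  · rw [hc.1, hd.1]
  · have h1 : p ^ Nat.log p m ≤ m := Nat.pow_log_le_self p hpos.ne'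
    have h2 : m < p ^ (Nat.log p m + 1) := Nat.lt_pow_succ_log_self hp.one_lt m
    have hu := isUnit_cast (A := A) p (not_dvd_choose_pow p _ m h1 h2)
    have hPq : ((p ^ Nat.log p m : ℕ) : ℕ∞) < q := lt_of_le_of_lt (by exact_mod_cast h1) hm
    rcases h1.lt_or_eq with hlt | heq
    · obtain ⟨j, hj⟩ := Nat.exists_eq_add_of_le h1
      have hjq : (j : ℕ∞) < q := lt_of_le_of_lt (by exact_mod_cast (show j ≤ m by omega)) hm
      have e1 := hc.2 _ j hPq hjq
      have e2 := hd.2 _ j hPq hjq
      rw [← hj] at e1 e2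
      have hP0 : 0 < p ^ Nat.log p m := pow_pos hp.pos _
      refine hu.mul_left_cancel ?_
      rw [e1, e2, h _ hPq, ih j (by omega) hjq]
    · rw [← heq]; exact h _ hPq

lemma pow_eq_zero {q : ℕ∞} {c : ℕ → A} (hc : SeqChar q c) (k : ℕ)
    (hq : ∀ j : ℕ, j < p → ((j * p ^ k : ℕ) : ℕ∞) < q) : c (p ^ k) ^ p = 0 := by
  have hp : p.Prime := Fact.out
  have hstep : ∀ j : ℕ, j < p → c (p ^ k) * c (j * p ^ k) = ((j + 1 : ℕ) : A) * c ((j + 1) * p ^ k) := by
    intro j hj
    have e := hc.2 (p ^ k) (j * p ^ k) (by simpa using hq 1 hp.one_lt) (hq j hj)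
    rw [← e, show p ^ k + j * p ^ k = (j + 1) * p ^ k by ring]
    congr 1
    have hmod : ((j + 1) * p ^ k).choose (p ^ k) ≡ j + 1 [MOD p] := by
      clear e
      induction k with
      | zero => simp [Nat.ModEq.refl]
      | succ k ih =>
        have hk := Choose.choose_modEq_choose_mod_mul_choose_div_nat (n := (j + 1) * p ^ (k + 1)) (k := p ^ (k + 1)) (p := p)
        rw [pow_succ, ← mul_assoc, Nat.mul_mod_left, Nat.mul_mod_left, Nat.choose_zero_right, one_mul,
          Nat.mul_div_cancel _ hp.pos, Nat.mul_div_cancel _ hp.pos] at hk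
        rw [pow_succ, ← mul_assoc]
        refine hk.trans (ih fun j hj => lt_of_le_of_lt ?_ (hq j hj))
        exact_mod_cast Nat.mul_le_mul_left j (Nat.pow_le_pow_right hp.pos (Nat.le_succ k))
    exact (CharP.natCast_eq_natCast A p).2 hmod
  have hall : ∀ j : ℕ, j ≤ p → c (p ^ k) ^ j = (j.factorial : A) * c (j * p ^ k) := by
    intro j
    induction j with
    | zero => intro; simp [hc.1]
    | succ j ih =>
      intro hj
      rw [pow_succ', ih (by omega), mul_left_comm, hstep j (by omega), Nat.factorial_succ]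
      push_cast
      ring
  rw [hall p le_rfl, (CharP.cast_eq_zero_iff A p _).2 ((Nat.Prime.dvd_factorial hp).2 le_rfl), zero_mul]

lemma natDegree_E_le (a : A) (n : ℕ) : (E p a n).natDegree ≤ (p - 1) * p ^ n := by
  refine natDegree_sum_le_of_forall_le _ _ fun j hj => (natDegree_C_mul_X_pow_le _ _).trans ?_
  rw [Finset.mem_range] at hj
  exact Nat.mul_le_mul_right _ (by omega)

lemma natDegree_prod_lt (a : ℕ → A) (m : ℕ) : (∏ n ∈ Finset.range m, E p (a n) n).natDegree < p ^ m := by
  have hp : p.Prime := Fact.out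
  induction m with
  | zero => simp
  | succ m ih =>
    rw [Finset.prod_range_succ]
    refine (natDegree_mul_le.trans (Nat.add_le_add_left (natDegree_E_le p _ _) _)).trans_lt ?_
    rw [pow_succ, mul_comm (p ^ m) p]
    calc (∏ n ∈ Finset.range m, E p (a n) n).natDegree + (p - 1) * p ^ m < p ^ m + (p - 1) * p ^ m :=
          Nat.add_lt_add_right ih _
      _ = p * p ^ m := by
          conv_rhs => rw [show p = 1 + (p - 1) by have := hp.pos; omega, add_mul, one_mul]
          rw [show 1 + (p - 1) = p by have := hp.pos; omega]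

lemma coeff_E (a : A) (n t : ℕ) (ht : t ≤ p ^ n) :
    (E p a n).coeff t = if t = 0 then 1 else if t = p ^ n then a else 0 := by
  have hp : p.Prime := Fact.out
  have hP : 0 < p ^ n := pow_pos hp.pos n
  rw [E, finsetSum_coeff]
  simp only [coeff_C_mul, coeff_X_pow]
  split_ifs with h0 h1
  · rw [Finset.sum_eq_single_of_mem 0 (Finset.mem_range.2 hp.pos)
      (fun j _ hj => by rw [if_neg (by rw [h0]; exact (Nat.mul_ne_zero hj hP.ne').symm), mul_zero])]
    simp [h0]
  · rw [Finset.sum_eq_single_of_mem 1 (Finset.mem_range.2 hp.one_lt)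
      (fun j _ hj => by rw [if_neg (by rw [h1]; exact fun h => hj (Nat.eq_of_mul_eq_mul_right hP (by rw [one_mul, ← h]))), mul_zero])]
    simp [h1]
  · refine Finset.sum_eq_zero fun j _ => ?_
    rw [if_neg ?_, mul_zero]
    intro h
    rcases j with _ | _ | j
    · simp at h; exact h0 h
    · simp at h; exact h1 h
    · have : 2 * p ^ n ≤ (j + 1 + 1) * p ^ n := Nat.mul_le_mul_right _ (by omega)
      omega

lemma coeff_prod_succ (a : ℕ → A) (m t : ℕ) (ht : t ≤ p ^ m) :
    (∏ n ∈ Finset.range (m + 1), E p (a n) n).coeff t =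
      if t = p ^ m then (∏ n ∈ Finset.range m, E p (a n) n).coeff t + (∏ n ∈ Finset.range m, E p (a n) n).coeff 0 * a m
      else (∏ n ∈ Finset.range m, E p (a n) n).coeff t := by
  have hP : 0 < p ^ m := pow_pos (Fact.out : p.Prime).pos m
  rw [Finset.prod_range_succ, mul_comm, coeff_mul, Finset.Nat.sum_antidiagonal_eq_sum_range_succ_mk]
  set Q := ∏ n ∈ Finset.range m, E p (a n) n
  rw [Finset.sum_congr rfl fun s hs => by rw [coeff_E p (a m) m s (by rw [Finset.mem_range] at hs; omega)]]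
  split_ifs with h
  · subst h
    rw [← Finset.add_sum_erase _ _ (Finset.mem_range.2 (Nat.succ_pos _) : 0 ∈ Finset.range (p ^ m + 1)),
      Finset.sum_eq_single_of_mem (p ^ m) (Finset.mem_erase.2 ⟨hP.ne', Finset.mem_range.2 (Nat.lt_succ_self _)⟩)]
    · simp only [if_true, if_neg hP.ne', one_mul, Nat.sub_zero, Nat.sub_self]
      ring
    · intro s hs hs'
      simp at hs
      simp [hs.1, hs']
  · rw [Finset.sum_eq_single_of_mem 0 (Finset.mem_range.2 (Nat.succ_pos _))]
    · simp
    · intro s hs hs'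
      simp at hs
      rw [if_neg hs', if_neg (by omega), zero_mul]

lemma coeff_prod_pow (a : ℕ → A) : ∀ m l : ℕ, l < m → (∏ n ∈ Finset.range m, E p (a n) n).coeff (p ^ l) = a l := by
  have hp : p.Prime := Fact.out
  have h0 : ∀ m, (∏ n ∈ Finset.range m, E p (a n) n).coeff 0 = 1 := fun m => by
    rw [coeff_zero_eq_eval_zero, eval_prod]
    exact Finset.prod_eq_one fun n _ => by rw [← coeff_zero_eq_eval_zero, coeff_E p _ _ 0 (Nat.zero_le _), if_pos rfl]
  intro m
  induction m with
  | zero => intro l hl; omega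
  | succ m ih =>
    intro l hl
    rw [coeff_prod_succ p a m _ (Nat.pow_le_pow_right hp.pos (by omega))]
    rcases Nat.lt_succ_iff_lt_or_eq.1 hl with h | rfl
    · rw [if_neg (fun e => h.ne (Nat.pow_right_injective hp.two_le e)), ih l h]
    · rw [if_pos rfl, h0, one_mul, coeff_eq_zero_of_natDegree_lt (natDegree_prod_lt p a l), zero_add]

/-- A sequence satisfying the functional equation below `q ≥ p^m` is a product of truncated exponentials there. -/
theorem eq_coeff_prod {q : ℕ∞} {c : ℕ → A} (hc : SeqChar q c) (ha : ∀ l : ℕ, ((p ^ l : ℕ) : ℕ∞) < q → c (p ^ l) ^ p = 0)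
    (m : ℕ) (hm : ((p ^ m : ℕ) : ℕ∞) ≤ q) {t : ℕ} (ht : t < p ^ m) :
    c t = (∏ n ∈ Finset.range m, E p (c (p ^ n)) n).coeff t := by
  have hp : p.Prime := Fact.out
  have hsub : SeqChar (p ^ m : ℕ) c :=
    ⟨hc.1, fun i j hi hj => hc.2 i j (lt_of_lt_of_le hi hm) (lt_of_lt_of_le hj hm)⟩
  have hlt : ∀ l : ℕ, l < m → ((p ^ l : ℕ) : ℕ∞) < q := fun l hl =>
    lt_of_lt_of_le (by exact_mod_cast Nat.pow_lt_pow_right hp.one_lt hl) hm
  have hchar : IsChar (∏ n ∈ Finset.range m, E p (c (p ^ n)) n) :=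
    Finset.prod_induction _ _ (fun _ _ => IsChar.mul) isChar_one fun n hn =>
      isChar_E p (ha n (hlt n (Finset.mem_range.1 hn))) n
  refine eq_of_pow p hsub (hchar.seqChar _) (fun k hk => ?_) t (by exact_mod_cast ht)
  have hk' : k < m := (Nat.pow_lt_pow_iff_right hp.one_lt).1 (by exact_mod_cast hk)
  exact (coeff_prod_pow p (fun n => c (p ^ n)) m k hk').symm

end Groth.Agent.GaChar
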