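import Groth.Agent.GaChar.Coeff

/-! Formal characters and characters of Frobenius kernels. -/

universe u

noncomputable section

namespace Groth.Agent.GaChar

variable {A : Type u} [CommRing A]

lemma seqChar_of_quotient {q : ℕ} (f : Polynomial A) (h0 : f.eval 0 = 1)
    (hmul : Ideal.Quotient.mk (Ideal.span {(MvPolynomial.X 0 ^ q : MvPolynomial (Fin 2) A), MvPolynomial.X 1 ^ q})
        (Polynomial.aeval (MvPolynomial.X 0 + MvPolynomial.X 1 : MvPolynomial (Fin 2) A) f) =
      Ideal.Quotient.mk (Ideal.span {(MvPolynomial.X 0 ^ q : MvPolynomial (Fin 2) A), MvPolynomial.X 1 ^ q})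
        (Polynomial.aeval (MvPolynomial.X 0 : MvPolynomial (Fin 2) A) f *
          Polynomial.aeval (MvPolynomial.X 1 : MvPolynomial (Fin 2) A) f)) :
    SeqChar (q : ℕ∞) f.coeff := by
  refine ⟨by rw [Polynomial.coeff_zero_eq_eval_zero, h0], fun i j hi hj => ?_⟩
  obtain ⟨x, y, hxy⟩ := Ideal.mem_span_pair.1 (Ideal.Quotient.eq.1 hmul)
  have h := congrArg (MvPolynomial.coeff (mon2 i j)) hxy
  rw [MvPolynomial.coeff_sub, coeff_aeval_add, coeff_aeval_mul, MvPolynomial.coeff_add,
    MvPolynomial.X_pow_eq_monomial, MvPolynomial.X_pow_eq_monomial, MvPolynomial.coeff_mul_monomial',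
    MvPolynomial.coeff_mul_monomial'] at h
  have hi' : i < q := by exact_mod_cast hi
  have hj' : j < q := by exact_mod_cast hj
  rw [if_neg (fun hle => absurd (hle 0) (by simp [mon2]; omega)),
    if_neg (fun hle => absurd (hle 1) (by simp [mon2]; omega)), add_zero] at h
  exact sub_eq_zero.1 h.symm

lemma coeff_subst_add (χ : PowerSeries A) (i j : ℕ) :
    MvPowerSeries.coeff (mon2 i j) (PowerSeries.subst (MvPowerSeries.X 0 + MvPowerSeries.X 1 : MvPowerSeries (Fin 2) A) χ) =
      ((i + j).choose i : A) * PowerSeries.coeff (i + j) χ := by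
  have hco : ∀ d : ℕ, MvPowerSeries.coeff (mon2 i j) ((MvPowerSeries.X 0 + MvPowerSeries.X 1 : MvPowerSeries (Fin 2) A) ^ d) =
      if d = i + j then (d.choose i : A) else 0 := fun d => by
    rw [← MvPolynomial.coe_X, ← MvPolynomial.coe_X, ← MvPolynomial.coe_add, ← MvPolynomial.coe_pow,
      MvPolynomial.coeff_coe, coeff_add_pow_two]
  rw [PowerSeries.coeff_subst (PowerSeries.HasSubst.of_constantCoeff_zero (by simp)),
    finsum_eq_single _ (i + j) (fun d hd => by rw [hco, if_neg hd, smul_zero]), hco, if_pos rfl, smul_eq_mul, mul_comm]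

lemma coeff_subst_X_zero (χ : PowerSeries A) (e : Fin 2 →₀ ℕ) :
    MvPowerSeries.coeff e (PowerSeries.subst (MvPowerSeries.X 0 : MvPowerSeries (Fin 2) A) χ) =
      if e 1 = 0 then PowerSeries.coeff (e 0) χ else 0 := by
  rw [PowerSeries.coeff_subst (PowerSeries.HasSubst.of_constantCoeff_zero (by simp))]
  have hco : ∀ d : ℕ, MvPowerSeries.coeff e ((MvPowerSeries.X 0 : MvPowerSeries (Fin 2) A) ^ d) =
      if e = Finsupp.single 0 d then (1 : A) else 0 := fun d => by rw [MvPowerSeries.X_pow_eq, MvPowerSeries.coeff_monomial]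
  split_ifs with h
  · rw [finsum_eq_single _ (e 0) fun d hd => by
      rw [hco, if_neg, smul_zero]
      intro he; exact hd (by rw [he, Finsupp.single_eq_same])]
    rw [hco, if_pos (by ext x; fin_cases x <;> simp [h]), smul_eq_mul, mul_one]
  · refine finsum_eq_zero_of_forall_eq_zero fun d => ?_
    rw [hco, if_neg, smul_zero]
    intro he; exact h (by rw [he]; simp)

lemma coeff_subst_X_one (χ : PowerSeries A) (e : Fin 2 →₀ ℕ) :
    MvPowerSeries.coeff e (PowerSeries.subst (MvPowerSeries.X 1 : MvPowerSeries (Fin 2) A) χ) =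
      if e 0 = 0 then PowerSeries.coeff (e 1) χ else 0 := by
  rw [PowerSeries.coeff_subst (PowerSeries.HasSubst.of_constantCoeff_zero (by simp))]
  have hco : ∀ d : ℕ, MvPowerSeries.coeff e ((MvPowerSeries.X 1 : MvPowerSeries (Fin 2) A) ^ d) =
      if e = Finsupp.single 1 d then (1 : A) else 0 := fun d => by rw [MvPowerSeries.X_pow_eq, MvPowerSeries.coeff_monomial]
  split_ifs with h
  · rw [finsum_eq_single _ (e 1) fun d hd => by
      rw [hco, if_neg, smul_zero]
      intro he; exact hd (by rw [he, Finsupp.single_eq_same])]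
    rw [hco, if_pos (by ext x; fin_cases x <;> simp [h]), smul_eq_mul, mul_one]
  · refine finsum_eq_zero_of_forall_eq_zero fun d => ?_
    rw [hco, if_neg, smul_zero]
    intro he; exact h (by rw [he]; simp)

lemma coeff_subst_mul (χ : PowerSeries A) (i j : ℕ) :
    MvPowerSeries.coeff (mon2 i j) (PowerSeries.subst (MvPowerSeries.X 0 : MvPowerSeries (Fin 2) A) χ *
        PowerSeries.subst (MvPowerSeries.X 1 : MvPowerSeries (Fin 2) A) χ) =
      PowerSeries.coeff i χ * PowerSeries.coeff j χ := by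
  classical
  rw [MvPowerSeries.coeff_mul, Finset.sum_eq_single_of_mem (Finsupp.single (0 : Fin 2) i, Finsupp.single (1 : Fin 2) j)
    (Finset.HasAntidiagonal.mem_antidiagonal.2 (show _ = mon2 i j from rfl))]
  · simp [coeff_subst_X_zero, coeff_subst_X_one]
  · rintro ⟨e1, e2⟩ he hne
    rw [Finset.HasAntidiagonal.mem_antidiagonal] at he
    simp only [coeff_subst_X_zero, coeff_subst_X_one]
    split_ifs with h1 h2
    · exfalso
      apply hne
      have h0' := DFunLike.congr_fun he 0
      have h1' := DFunLike.congr_fun he 1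
      simp [mon2] at h0' h1'
      refine Prod.ext ?_ ?_ <;> ext x <;> fin_cases x <;> simp <;> omega
    · rw [mul_zero]
    all_goals rw [zero_mul]

theorem formal_iff (p : ℕ) [Fact p.Prime] [CharP A p] (χ : PowerSeries A) :
    (PowerSeries.constantCoeff χ = 1 ∧
      PowerSeries.subst (MvPowerSeries.X 0 + MvPowerSeries.X 1 : MvPowerSeries (Fin 2) A) χ =
        PowerSeries.subst (MvPowerSeries.X 0 : MvPowerSeries (Fin 2) A) χ *
          PowerSeries.subst (MvPowerSeries.X 1 : MvPowerSeries (Fin 2) A) χ) ↔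
      ∃ a : ℕ → A, (∀ n, a n ^ p = 0) ∧ ∀ m : ℕ,
        PowerSeries.trunc (p ^ m) χ = ∏ n ∈ Finset.range m, E p (a n) n := by
  have hp : p.Prime := Fact.out
  constructor
  · rintro ⟨h0, hm⟩
    have hc : SeqChar (⊤ : ℕ∞) (fun t => PowerSeries.coeff t χ) :=
      ⟨by simpa using h0, fun i j _ _ => by rw [← coeff_subst_add, hm, coeff_subst_mul]⟩
    have ha : ∀ l : ℕ, PowerSeries.coeff (p ^ l) χ ^ p = 0 := fun l =>
      pow_eq_zero p hc l fun j _ => ENat.coe_lt_top _
    refine ⟨fun l => PowerSeries.coeff (p ^ l) χ, ha, fun m => ?_⟩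
    ext t
    rw [PowerSeries.coeff_trunc]
    split_ifs with ht
    · exact eq_coeff_prod p hc (fun l _ => ha l) m le_top ht
    · exact (Polynomial.coeff_eq_zero_of_natDegree_lt (lt_of_lt_of_le (natDegree_prod_lt p _ m) (not_lt.1 ht))).symm
  · rintro ⟨a, ha, h⟩
    have hco : ∀ t m : ℕ, t < p ^ m → PowerSeries.coeff t χ = (∏ n ∈ Finset.range m, E p (a n) n).coeff t := fun t m ht => by
      rw [← h m, PowerSeries.coeff_trunc, if_pos ht]
    have hchar : ∀ m, IsChar (∏ n ∈ Finset.range m, E p (a n) n) := fun m =>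
      Finset.prod_induction _ _ (fun _ _ => IsChar.mul) isChar_one fun n _ => isChar_E p (ha n) n
    refine ⟨?_, MvPowerSeries.ext fun e => ?_⟩
    · rw [← PowerSeries.coeff_zero_eq_constantCoeff_apply, hco 0 0 (by simp)]
      simp
    · rw [exists_mon2 e, coeff_subst_add, coeff_subst_mul]
      obtain ⟨m, hm⟩ : ∃ m, e 0 + e 1 < p ^ m := ⟨_, Nat.lt_pow_self hp.one_lt⟩
      rw [hco _ m hm, hco (e 0) m (by omega), hco (e 1) m (by omega)]
      exact ((hchar m).seqChar ⊤).2 _ _ (ENat.coe_lt_top _) (ENat.coe_lt_top _)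

theorem kernel_char (p : ℕ) [Fact p.Prime] [CharP A p] (n : ℕ) (f : Polynomial A) (hdeg : f.natDegree < p ^ n)
    (hc : SeqChar ((p ^ n : ℕ) : ℕ∞) f.coeff) :
    ∃ a : ℕ → A, (∀ i, a i ^ p = 0) ∧ f = ∏ i ∈ Finset.range n, E p (a i) i := by
  have hp : p.Prime := Fact.out
  have ha : ∀ l, l < n → f.coeff (p ^ l) ^ p = 0 := fun l hl => pow_eq_zero p hc l fun j hj => by
    have : j * p ^ l < p ^ n := calc
      j * p ^ l < p * p ^ l := Nat.mul_lt_mul_of_pos_right hj (pow_pos hp.pos _)
      _ = p ^ (l + 1) := (pow_succ' p l).symm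
      _ ≤ p ^ n := Nat.pow_le_pow_right hp.pos hl
    exact_mod_cast this
  refine ⟨fun i => if i < n then f.coeff (p ^ i) else 0, fun i => ?_, ?_⟩
  · dsimp only
    split_ifs with h
    · exact ha i h
    · exact zero_pow hp.ne_zero
  · rw [show (∏ i ∈ Finset.range n, E p (if i < n then f.coeff (p ^ i) else 0) i) =
        ∏ i ∈ Finset.range n, E p (f.coeff (p ^ i)) i from
      Finset.prod_congr rfl fun i hi => by rw [if_pos (Finset.mem_range.1 hi)]]
    ext t
    rcases Nat.lt_or_ge t (p ^ n) with ht | ht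
    · exact eq_coeff_prod p hc (fun l hl => ha l ((Nat.pow_lt_pow_iff_right hp.one_lt).1 (by exact_mod_cast hl))) n le_rfl ht
    · rw [Polynomial.coeff_eq_zero_of_natDegree_lt (lt_of_lt_of_le hdeg ht),
        Polynomial.coeff_eq_zero_of_natDegree_lt (lt_of_lt_of_le (natDegree_prod_lt p _ n) ht)]

end Groth.Agent.GaChar
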