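import Groth.Agent.GaChar.Formal

/-! Characters of the additive group over a ℚ-algebra. -/

universe u

namespace Groth.Agent.GaChar

variable {A : Type u} [CommRing A] [Algebra ℚ A]

lemma isUnit_factorialQ (n : ℕ) : IsUnit (n.factorial : A) := by
  have h : IsUnit (n.factorial : ℚ) := isUnit_iff_ne_zero.2 (by exact_mod_cast n.factorial_ne_zero)
  simpa using h.map (algebraMap ℚ A)

lemma coeff_rescale_exp (a : A) (n : ℕ) :
    PowerSeries.coeff n (PowerSeries.rescale a (PowerSeries.exp A)) * (n.factorial : A) = a ^ n := by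
  rw [PowerSeries.coeff_rescale, PowerSeries.coeff_exp, mul_assoc,
    ← map_natCast (algebraMap ℚ A) n.factorial, ← map_mul,
    one_div_mul_cancel (by exact_mod_cast n.factorial_ne_zero : (n.factorial : ℚ) ≠ 0), map_one, mul_one]

lemma seq_iff (c : ℕ → A) (a : A) :
    (∀ n, c n * (n.factorial : A) = a ^ n) →
      c 0 = 1 ∧ ∀ i j, ((i + j).choose i : A) * c (i + j) = c i * c j := by
  intro h
  refine ⟨by simpa using h 0, fun i j => ?_⟩
  refine ((isUnit_factorialQ (A := A) i).mul (isUnit_factorialQ (A := A) j)).mul_right_cancel ?_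
  have hc : (((i + j).choose i : A)) * ((i.factorial : A) * (j.factorial : A)) = ((i + j).factorial : A) := by
    rw [← mul_assoc]
    exact_mod_cast congrArg (Nat.cast : ℕ → A)
      ((Nat.choose_symm_add (a := i) (b := j)).symm ▸ Nat.add_choose_mul_factorial_mul_factorial i j :
        (i + j).choose i * i.factorial * j.factorial = (i + j).factorial)
  calc _ = c (i + j) * (((i + j).choose i : A) * ((i.factorial : A) * (j.factorial : A))) := by ring
    _ = a ^ i * a ^ j := by rw [hc, h, pow_add]
    _ = _ := by rw [← h i, ← h j]; ring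

lemma seq_pow (c : ℕ → A) (h0 : c 0 = 1) (h : ∀ i j, ((i + j).choose i : A) * c (i + j) = c i * c j) :
    ∀ n, c n * (n.factorial : A) = c 1 ^ n := by
  intro n
  induction n with
  | zero => simp [h0]
  | succ n ih =>
    have h1 := h n 1
    rw [Nat.choose_succ_self_right] at h1
    rw [pow_succ, ← ih, Nat.factorial_succ, Nat.cast_mul]
    calc c (n + 1) * (((n + 1 : ℕ) : A) * (n.factorial : A))
        = (((n + 1 : ℕ) : A) * c (n + 1)) * (n.factorial : A) := by ring
      _ = _ := by rw [h1]; ring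

lemma eq_exp (χ : PowerSeries A) (a : A) (h : ∀ n, PowerSeries.coeff n χ * (n.factorial : A) = a ^ n) :
    χ = PowerSeries.rescale a (PowerSeries.exp A) :=
  PowerSeries.ext fun n => (isUnit_factorialQ n).mul_right_cancel (by rw [h, coeff_rescale_exp])

theorem formalQ_iff (χ : PowerSeries A) :
    (PowerSeries.constantCoeff χ = 1 ∧
      PowerSeries.subst (MvPowerSeries.X 0 + MvPowerSeries.X 1 : MvPowerSeries (Fin 2) A) χ =
        PowerSeries.subst (MvPowerSeries.X 0 : MvPowerSeries (Fin 2) A) χ *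
          PowerSeries.subst (MvPowerSeries.X 1 : MvPowerSeries (Fin 2) A) χ) ↔
      ∃ a : A, χ = PowerSeries.rescale a (PowerSeries.exp A) := by
  constructor
  · rintro ⟨h0, hm⟩
    exact ⟨_, eq_exp χ _ (seq_pow (fun n => PowerSeries.coeff n χ) (by simpa using h0)
      fun i j => by rw [← coeff_subst_add, hm, coeff_subst_mul])⟩
  · rintro ⟨a, rfl⟩
    obtain ⟨h0, h⟩ := seq_iff _ a (coeff_rescale_exp a)
    refine ⟨by rw [← PowerSeries.coeff_zero_eq_constantCoeff_apply]; exact h0, MvPowerSeries.ext fun e => ?_⟩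
    rw [exists_mon2 e, coeff_subst_add, coeff_subst_mul]
    exact h _ _

theorem polyQ_iff (f : Polynomial A) :
    (f.eval 0 = 1 ∧
      Polynomial.aeval (MvPolynomial.X 0 + MvPolynomial.X 1 : MvPolynomial (Fin 2) A) f =
        Polynomial.aeval (MvPolynomial.X 0 : MvPolynomial (Fin 2) A) f *
          Polynomial.aeval (MvPolynomial.X 1 : MvPolynomial (Fin 2) A) f) ↔
      ∃ a : A, IsNilpotent a ∧ (f : PowerSeries A) = PowerSeries.rescale a (PowerSeries.exp A) := by
  constructor
  · rintro ⟨h0, hm⟩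
    have h := seq_pow (fun n => f.coeff n) (by simpa [Polynomial.coeff_zero_eq_eval_zero] using h0)
      fun i j => by rw [← coeff_aeval_add, hm, coeff_aeval_mul]
    refine ⟨_, ⟨f.natDegree + 1, ?_⟩, eq_exp _ (f.coeff 1) fun n => by rw [Polynomial.coeff_coe]; exact h n⟩
    rw [← h, Polynomial.coeff_eq_zero_of_natDegree_lt (Nat.lt_succ_self _), zero_mul]
  · rintro ⟨a, -, ha⟩
    obtain ⟨h0, h⟩ := seq_iff (fun n => f.coeff n) a fun n => by
      rw [← Polynomial.coeff_coe, ha, coeff_rescale_exp]
    refine ⟨by rw [← Polynomial.coeff_zero_eq_eval_zero]; exact h0, MvPolynomial.ext _ _ fun e => ?_⟩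
    rw [exists_mon2 e, coeff_aeval_add, coeff_aeval_mul]
    exact h _ _

end Groth.Agent.GaChar
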